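import Groth.Agent.DR39.CMLocusSch
import Groth.Agent.DR39.Existence
import Groth.Agent.DR39.Dualizing2
import Groth.Agent.DCX42.TildeEq
import Groth.Agent.DCX42.TildeDer
import Groth.Agent.DCX42.LpullLoc
import Groth.Agent.DCX42.LocalFP
import Groth.Agent.S1787
import Groth.Prelude.Def_Dual3

/-!
# Being dualizing is local on a scheme
-/

set_option autoImplicit false
set_option linter.unusedSectionVars false
set_option backward.isDefEq.respectTransparency false

universe u

open CategoryTheory CategoryTheory.Limits AlgebraicGeometry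

attribute [local instance] HasDerivedCategory.standard

namespace Groth.Agent.An92.DualGor

/-- An affine open of an affine scheme cut out by a basic open of an ambient scheme. -/
theorem exists_preimage_basicOpen {X : Scheme.{u}} (R : Type u) [CommRing R] (j : Spec (CommRingCat.of R) ⟶ X)
    (U : X.Opens) (hU : j ⁻¹ᵁ U = ⊤) (f : Γ(X, U)) :
    ∃ r : R, j ⁻¹ᵁ X.basicOpen f = PrimeSpectrum.basicOpen r := by
  refine ⟨(Scheme.ΓSpecIso (CommRingCat.of R)).hom
    ((Spec (CommRingCat.of R)).presheaf.map (eqToHom hU.symm).op (j.app U f)), ?_⟩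
  rw [Scheme.preimage_basicOpen, ← basicOpen_eq_of_affine', Scheme.basicOpen_res, top_inf_eq]

/-- Near a common point, two affine charts share a chart which is a localization of both. -/
theorem exists_common_away {X : Scheme.{u}} (A B : Type u) [CommRing A] [CommRing B]
    (j : Spec (CommRingCat.of A) ⟶ X) [IsOpenImmersion j]
    (i : Spec (CommRingCat.of B) ⟶ X) [IsOpenImmersion i]
    (y : Spec (CommRingCat.of B)) (hy : i y ∈ Set.range j) :
    ∃ (g : B) (g' : A) (φ : A →+* Localization.Away g),
      y ∈ PrimeSpectrum.basicOpen g ∧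
      (letI := φ.toAlgebra; IsLocalization.Away g' (Localization.Away g)) ∧
      IsOpenImmersion (Spec.map (CommRingCat.ofHom φ)) ∧
      Spec.map (CommRingCat.ofHom φ) ≫ j =
        Spec.map (CommRingCat.ofHom (algebraMap B (Localization.Away g))) ≫ i := by
  have hi : IsAffineOpen i.opensRange := isAffineOpen_opensRange i
  have hj : IsAffineOpen j.opensRange := isAffineOpen_opensRange j
  obtain ⟨f, f', hff', hxf⟩ := exists_basicOpen_le_affine_inter hi hj (i y) ⟨⟨y, rfl⟩, hy⟩
  obtain ⟨g, hg⟩ := exists_preimage_basicOpen B i _ (i.preimage_opensRange) f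
  obtain ⟨g', hg'⟩ := exists_preimage_basicOpen A j _ (j.preimage_opensRange) f'
  let l := Spec.map (CommRingCat.ofHom (algebraMap B (Localization.Away g)))
  let l' := Spec.map (CommRingCat.ofHom (algebraMap A (Localization.Away g')))
  haveI : IsOpenImmersion l := IsOpenImmersion.of_isLocalization g
  haveI : IsOpenImmersion l' := IsOpenImmersion.of_isLocalization g'
  have h1 : Set.range (l ≫ i) = (X.basicOpen f : Set X) := by
    rw [Scheme.Hom.comp_base, TopCat.coe_comp, Set.range_comp]
    erw [PrimeSpectrum.localization_away_comap_range (Localization.Away g) g]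
    rw [← hg]
    exact Set.image_preimage_eq_of_subset fun z hz => X.basicOpen_le f hz
  have h2 : Set.range (l' ≫ j) = (X.basicOpen f' : Set X) := by
    rw [Scheme.Hom.comp_base, TopCat.coe_comp, Set.range_comp]
    erw [PrimeSpectrum.localization_away_comap_range (Localization.Away g') g']
    rw [← hg']
    exact Set.image_preimage_eq_of_subset fun z hz => X.basicOpen_le f' hz
  let e := IsOpenImmersion.isoOfRangeEq (l ≫ i) (l' ≫ j) (by rw [h1, h2, hff'])
  have he : e.hom ≫ l' ≫ j = l ≫ i := IsOpenImmersion.isoOfRangeEq_hom_fac _ _ _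
  let ψ : CommRingCat.of (Localization.Away g') ≅ CommRingCat.of (Localization.Away g) :=
    { hom := Spec.preimage e.hom
      inv := Spec.preimage e.inv
      hom_inv_id := Spec.map_injective (by rw [Spec.map_comp, Spec.map_preimage, Spec.map_preimage, Spec.map_id, e.inv_hom_id])
      inv_hom_id := Spec.map_injective (by rw [Spec.map_comp, Spec.map_preimage, Spec.map_preimage, Spec.map_id, e.hom_inv_id]) }
  have hψ : Spec.map ψ.hom = e.hom := Spec.map_preimage _
  refine ⟨g, g', (ψ.hom.hom).comp (algebraMap A (Localization.Away g')), ?_, ?_, ?_, ?_⟩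
  · rw [← hg]
    exact hxf
  · letI := ((ψ.hom.hom).comp (algebraMap A (Localization.Away g'))).toAlgebra
    exact IsLocalization.isLocalization_of_algEquiv (Submonoid.powers g')
      (AlgEquiv.ofRingEquiv (f := ψ.commRingCatIsoToRingEquiv) fun _ => rfl)
  · rw [CommRingCat.ofHom_comp, Spec.map_comp]
    have : IsOpenImmersion (Spec.map (CommRingCat.ofHom ψ.hom.hom)) := by
      show IsOpenImmersion (Spec.map ψ.hom)
      rw [hψ]
      infer_instance
    infer_instance
  · rw [CommRingCat.ofHom_comp, Spec.map_comp, Category.assoc]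
    show Spec.map ψ.hom ≫ l' ≫ j = l ≫ i
    rw [hψ, he]

variable {X : Scheme.{u}}
  [∀ (U V : Scheme.{u}) (j : U ⟶ V) [IsOpenImmersion j], PreservesFiniteLimits (Scheme.Modules.restrictFunctor j)]
  [∀ (R : CommRingCat.{u}), PreservesFiniteLimits (tilde.functor R)]

/-- Restricting a derived tilde along an open immersion of spectra is derived base change. -/
theorem nonempty_restrictD_tildeD (A B : Type u) [CommRing A] [CommRing B] [Algebra A B] [Module.Flat A B]
    [IsOpenImmersion (Spec.map (CommRingCat.ofHom (algebraMap A B)))] (ω : Dual.D A) :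
    Nonempty ((DCoh.restrictD (Spec.map (CommRingCat.ofHom (algebraMap A B)))).obj
        ((DCoh.tildeD (CommRingCat.of A)).obj ω) ≅
      (DCoh.tildeD (CommRingCat.of B)).obj ((DR39.DF (DR39.extA A B)).obj ω)) := by
  haveI := DR39.hasLBaseChange (algebraMap A B)
  haveI : DRing.HasLBaseChange (CommRingCat.ofHom (algebraMap A B)).hom := DR39.hasLBaseChange _
  haveI := DCK91.hasLpull (Spec.map (CommRingCat.ofHom (algebraMap A B)))
  obtain ⟨e⟩ := DCX42.LBaseChange_comp_tildeD (CommRingCat.of A) (CommRingCat.of B)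
    (CommRingCat.ofHom (algebraMap A B))
  obtain ⟨p⟩ := DCX42.nonempty_Lpull_iso_resD (Spec.map (CommRingCat.ofHom (algebraMap A B)))
  obtain ⟨b⟩ := DR39.lbcIso (A := A) (B := B) ω
  exact ⟨(p.app _).symm ≪≫ (e.app ω).symm ≪≫ (DCoh.tildeD (CommRingCat.of B)).mapIso b⟩

omit [∀ (U V : Scheme.{u}) (j : U ⟶ V) [IsOpenImmersion j], PreservesFiniteLimits (Scheme.Modules.restrictFunctor j)]
  [∀ (R : CommRingCat.{u}), PreservesFiniteLimits (tilde.functor R)] in
/-- Quasi-coherence on the source of an open immersion gives it on its range. -/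
theorem isQuasicoherent_opensRange (M : X.Modules) {U : Scheme.{u}} (l : U ⟶ X) [IsOpenImmersion l]
    (h : ((Scheme.Modules.restrictFunctor l).obj M).IsQuasicoherent) :
    (M.restrict l.opensRange.ι).IsQuasicoherent := by
  haveI := h
  have h' : ((Scheme.Modules.restrictFunctor l.isoOpensRange.inv).obj
      ((Scheme.Modules.restrictFunctor l).obj M)).IsQuasicoherent := inferInstance
  exact (SheafOfModules.isQuasicoherent (l.opensRange : Scheme.{u}).ringCatSheaf).prop_of_iso
    (X := (Scheme.Modules.restrictFunctor l.isoOpensRange.inv).obj ((Scheme.Modules.restrictFunctor l).obj M))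
    ((Scheme.Modules.restrictFunctorCongr (l.isoOpensRange_inv_comp).symm ≪≫
      Scheme.Modules.restrictFunctorComp l.isoOpensRange.inv l).app M).symm h'

/-- Quasi-coherence of the cohomology is local. -/
theorem isQCohD_of_local (K : DCoh.D X)
    (h : ∀ x : X, ∃ (U : Scheme.{u}) (l : U ⟶ X) (_ : IsOpenImmersion l),
      x ∈ Set.range l ∧ DCoh.IsQCohD ((DCoh.restrictD l).obj K)) : DCoh.IsQCohD K := fun k => by
  refine DCX42.isQCoh_of_local _ fun x => ?_
  obtain ⟨U, l, _, hx, hl⟩ := h x
  refine ⟨l.opensRange, hx, ?_⟩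
  obtain ⟨e⟩ := DR39.nonempty_homology_mapDerived (Scheme.Modules.restrictFunctor l) K k
  exact isQuasicoherent_opensRange (DCoh.HD K k) l
    ((SheafOfModules.isQuasicoherent U.ringCatSheaf).prop_of_iso e (hl k))

/-- Near every point of a chart, the restriction is a dualizing complex of a localization. -/
theorem exists_away_dualizing {K : DCoh.D X} {A B : Type u} [CommRing A] [CommRing B] [IsNoetherianRing B]
    (j : Spec (CommRingCat.of A) ⟶ X) [IsOpenImmersion j]
    {ω : Dual.D A} (hω : Dual.IsDualizing A ω)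
    (e : (DCoh.restrictD j).obj K ≅ (DCoh.tildeD (CommRingCat.of A)).obj ω)
    (i : Spec (CommRingCat.of B) ⟶ X) [IsOpenImmersion i]
    (y : Spec (CommRingCat.of B)) (hy : i y ∈ Set.range j) :
    ∃ g : B, y ∈ PrimeSpectrum.basicOpen g ∧
      ∃ (ω' : Dual.D (Localization.Away g)), Dual.IsDualizing _ ω' ∧
        ∃ (_ : IsOpenImmersion (Spec.map (CommRingCat.ofHom (algebraMap B (Localization.Away g))))),
          Nonempty ((DCoh.restrictD (Spec.map (CommRingCat.ofHom (algebraMap B (Localization.Away g))))).obj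
              ((DCoh.restrictD i).obj K) ≅ (DCoh.tildeD (CommRingCat.of (Localization.Away g))).obj ω') := by
  obtain ⟨g, g', φ, hy, hloc, hop, hφ⟩ := exists_common_away A B j i y hy
  letI := φ.toAlgebra
  haveI : IsLocalization.Away g' (Localization.Away g) := hloc
  haveI : IsOpenImmersion (Spec.map (CommRingCat.ofHom (algebraMap A (Localization.Away g)))) := hop
  haveI : Module.Flat A (Localization.Away g) := IsLocalization.flat _ (Submonoid.powers g')
  haveI : IsNoetherianRing (Localization.Away g) :=
    IsLocalization.isNoetherianRing (Submonoid.powers g) _ inferInstance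
  haveI hl : IsOpenImmersion (Spec.map (CommRingCat.ofHom (algebraMap B (Localization.Away g)))) :=
    IsOpenImmersion.of_isLocalization g
  refine ⟨g, hy, _, DR39.isDualizing_DF_of_extended (B := Localization.Away g) hω fun J => ⟨J.comap _,
    IsLocalization.map_comap (Submonoid.powers g') _ J⟩, hl, ?_⟩
  obtain ⟨p⟩ := nonempty_restrictD_tildeD A (Localization.Away g) ω
  exact ⟨(DCX42.resDComp _ i).app K ≪≫ (DCX42.resDCongr hφ.symm).app K ≪≫
    ((DCX42.resDComp _ j).app K).symm ≪≫ (DCoh.restrictD _).mapIso e ≪≫ p⟩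

/-- A complex on a spectrum which is dualizing on a standard cover comes from a dualizing complex. -/
theorem exists_dualizing_of_local {B : Type u} [CommRing B] [IsNoetherianRing B]
    (L : DCoh.D (Spec (CommRingCat.of B))) (G : Spec (CommRingCat.of B) → B)
    (hG : ∀ y, y ∈ PrimeSpectrum.basicOpen (G y))
    (hl : ∀ y, IsOpenImmersion (Spec.map (CommRingCat.ofHom (algebraMap B (Localization.Away (G y))))))
    (ω : ∀ y, Dual.D (Localization.Away (G y))) (hω : ∀ y, Dual.IsDualizing _ (ω y))
    (he : ∀ y, Nonempty ((DCoh.restrictD (Spec.map (CommRingCat.ofHom (algebraMap B (Localization.Away (G y)))))).obj L ≅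
      (DCoh.tildeD (CommRingCat.of (Localization.Away (G y)))).obj (ω y))) :
    ∃ ωB : Dual.D B, Dual.IsDualizing B ωB ∧ Nonempty (L ≅ (DCoh.tildeD (CommRingCat.of B)).obj ωB) := by
  have hq : DCoh.IsQCohD L := by
    refine isQCohD_of_local L fun y => ?_
    obtain ⟨e⟩ := he y
    haveI := hl y
    refine ⟨Spec (CommRingCat.of (Localization.Away (G y))),
      Spec.map (CommRingCat.ofHom (algebraMap B (Localization.Away (G y)))), hl y, ?_, ?_⟩
    · show y ∈ Set.range (PrimeSpectrum.comap (algebraMap B (Localization.Away (G y))))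
      rw [PrimeSpectrum.localization_away_comap_range _ (G y)]
      exact hG y
    · exact DCX42.isQCohD_of_iso e.symm (DCX42.isQCohD_tildeD (CommRingCat.of (Localization.Away (G y))) (ω y))
  obtain ⟨-, -, hess⟩ := DCX42.tildeD_fullyFaithful_essImage (CommRingCat.of B)
  obtain ⟨ωB, ⟨eB⟩⟩ := (hess L).1 hq
  refine ⟨ωB, ?_, ⟨eB.symm⟩⟩
  obtain ⟨s, hs⟩ := CompactSpace.elim_nhds_subcover
    (fun y : PrimeSpectrum B => (PrimeSpectrum.basicOpen (G y) : Set (PrimeSpectrum B)))
    (fun y => (PrimeSpectrum.basicOpen (G y)).isOpen.mem_nhds (hG y))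
  refine S1787.result B s.card (fun n => G (s.equivFin.symm n).1) ?_ ωB fun n => ?_
  · rw [← PrimeSpectrum.iSup_basicOpen_eq_top_iff, ← top_le_iff]
    intro z _
    obtain ⟨y, hy, hzy⟩ : ∃ y ∈ s, z ∈ PrimeSpectrum.basicOpen (G y) := by
      have : z ∈ ⋃ y ∈ s, (PrimeSpectrum.basicOpen (G y) : Set (PrimeSpectrum B)) := hs ▸ trivial
      simpa using this
    exact TopologicalSpace.Opens.mem_iSup.2 ⟨s.equivFin ⟨y, hy⟩, by simpa using hzy⟩
  · generalize (s.equivFin.symm n).1 = y
    haveI := DR39.hasLBaseChange (algebraMap B (Localization.Away (G y)))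
    refine ⟨inferInstance, ?_⟩
    haveI := hl y
    haveI : Module.Flat B (Localization.Away (G y)) := IsLocalization.flat _ (Submonoid.powers (G y))
    obtain ⟨b⟩ := DR39.lbcIso (A := B) (B := Localization.Away (G y)) ωB
    obtain ⟨e'⟩ := he y
    obtain ⟨p⟩ := nonempty_restrictD_tildeD B (Localization.Away (G y)) ωB
    obtain ⟨hfull, hfaith, -⟩ :=
      DCX42.tildeD_fullyFaithful_essImage (CommRingCat.of (Localization.Away (G y)))
    haveI : (DCoh.tildeD (CommRingCat.of (Localization.Away (G y)))).Full := hfull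
    haveI : (DCoh.tildeD (CommRingCat.of (Localization.Away (G y)))).Faithful := hfaith
    refine DR39.isDualizing_of_iso (hω y) (?_ ≪≫ b.symm)
    exact (DCoh.tildeD (CommRingCat.of (Localization.Away (G y)))).preimageIso
      (e'.symm ≪≫ (DCoh.restrictD _).mapIso eB.symm ≪≫ p)

/-- A dualizing complex on an affine cover is dualizing on every affine chart. -/
theorem isDualizingSch_of_cover [IsLocallyNoetherian X] (K : DCoh.D X) (ι : Type u) (A : ι → Type u)
    [∀ i, CommRing (A i)] (j : ∀ i, Spec (CommRingCat.of (A i)) ⟶ X) [∀ i, IsOpenImmersion (j i)]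
    (hcov : ∀ x : X, ∃ i, x ∈ Set.range (j i))
    (hK : ∀ i, ∃ ω : Dual.D (A i), Dual.IsDualizing (A i) ω ∧
      Nonempty ((DCoh.restrictD (j i)).obj K ≅ (DCoh.tildeD (CommRingCat.of (A i))).obj ω)) :
    Dual2.IsDualizingSch X K := by
  intro B _ i₀ _
  haveI : IsLocallyNoetherian (Spec (CommRingCat.of B)) := isLocallyNoetherian_of_isOpenImmersion i₀
  haveI hB : IsNoetherianRing B := (isLocallyNoetherian_Spec (R := CommRingCat.of B)).1 inferInstance
  have key : ∀ y : Spec (CommRingCat.of B), _ := fun y =>
    let ⟨i, hi⟩ := hcov (i₀ y)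
    let ⟨_, hω, he⟩ := hK i
    exists_away_dualizing (j i) hω he.some i₀ y hi
  choose G hG ω hω hl he using key
  exact exists_dualizing_of_local _ G hG hl ω hω he

end Groth.Agent.An92.DualGor
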