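import Groth.Agent.Gor18.Dualizing
import Groth.Agent.Gor18.GlobalDim
import Groth.Agent.DR39.GorLocus
import Groth.Agent.DR39.LocalDual3

/-!
# Gorenstein rings with a dualizing complex

For a Noetherian ring with a dualizing complex, being Gorenstein means that `A[0]` is dualizing.
-/

set_option autoImplicit false
set_option linter.unusedSectionVars false
set_option backward.isDefEq.respectTransparency false

universe u

open CategoryTheory CategoryTheory.Limits Abelian

attribute [local instance] HasDerivedCategory.standard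

namespace Groth.Agent.An92.DualGor

variable {A : Type u} [CommRing A]

/-- A ring of finite self-injective dimension is its own dualizing complex. -/
theorem isDualizing_of_hasInjectiveDimensionLT [IsNoetherianRing A] (n : ℕ)
    (hn : HasInjectiveDimensionLT (ModuleCat.of A A) n) : Dual.IsDualizing A (Dual.inD A A) := by
  refine ⟨inferInstance, ⟨0, n, fun M _ _ i hi => ?_⟩, fun i => ?_, ?_, fun i hi => ?_⟩
  · rcases hi with hi | hi
    · exact Gor18.subsingleton_hom_shift_neg_inD M A i hi
    · lift i to ℕ using by omega with m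
      exact (Gor18.subsingleton_ext_iff_hom M A m).1
        (HasInjectiveDimensionLT.subsingleton _ n m (by omega) _)
  · by_cases hi : i = 0
    · subst hi
      exact @Module.Finite.equiv _ _ _ _ _ _ _ _ (inferInstanceAs (Module.Finite A A))
        ((DerivedCategory.singleFunctorCompHomologyFunctorIso (ModuleCat.{u} A) 0).app
          (ModuleCat.of A A)).toLinearEquiv.symm
    · have : Subsingleton (Dual.HD A (Dual.inD A A) i) := ModuleCat.subsingleton_of_isZero <| by
        rcases lt_or_gt_of_ne hi with h | h
        · exact DerivedCategory.isZero_of_isGE _ 0 i h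
        · exact DerivedCategory.isZero_of_isLE _ 0 i h
      exact Module.Finite.of_surjective (0 : A →ₗ[A] Dual.HD A (Dual.inD A A) i)
        (fun y => ⟨0, Subsingleton.elim _ _⟩)
  · have he : Function.Bijective (fun a : A => a • 𝟙 (ModuleCat.of A A)) := by
      constructor
      · intro a b hab
        have := congrArg (fun f : ModuleCat.of A A ⟶ ModuleCat.of A A => f.hom 1) hab
        simpa using this
      · intro f
        refine ⟨f.hom 1, ?_⟩
        ext
        simp
    have hF := (Functor.FullyFaithful.ofFullyFaithful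
      (DerivedCategory.singleFunctor (ModuleCat.{u} A) 0)).map_bijective
        (ModuleCat.of A A) (ModuleCat.of A A)
    have heq : (fun a : A => a • 𝟙 (Dual.inD A A)) =
        (DerivedCategory.singleFunctor (ModuleCat.{u} A) 0).map ∘
          (fun a : A => a • 𝟙 (ModuleCat.of A A)) := by
      funext a
      simp [Functor.map_smul]
    rw [heq]
    exact hF.comp he
  · rcases lt_or_gt_of_ne hi with h | h
    · exact Gor18.subsingleton_hom_shift_neg_inD A A i h
    · lift i to ℕ using h.le with m
      obtain ⟨m, rfl⟩ := Nat.exists_eq_succ_of_ne_zero (by omega : m ≠ 0)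
      have : Projective (ModuleCat.of A A) :=
        (IsProjective.iff_projective (R := A) A).1 inferInstance
      exact (Gor18.subsingleton_ext_iff_hom A A (m + 1)).1
        (subsingleton_of_forall_eq 0 fun x => x.eq_zero_of_projective)

/-- A ring with a dualizing complex and Gorenstein local rings is its own dualizing complex. -/
theorem isDualizing_self_of_gor {ω : Dual.D A} (hω : Dual.IsDualizing A ω)
    (hG : ∀ (p : Ideal A) [p.IsPrime], LocCoh.IsGorensteinLocalRing (Localization.AtPrime p)) :
    Dual.IsDualizing A (Dual.inD A A) := by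
  haveI := hω.isNoetherianRing
  obtain ⟨n, hn⟩ := DR39.exists_dim_le hω
  obtain ⟨m, hm⟩ := (Gor18.finite_injDim_self_iff A).2
    ⟨{ isGorensteinLocalRing_localization := hG }, hn.trans_lt (WithBot.coe_lt_coe.2 (ENat.coe_lt_top n))⟩
  exact isDualizing_of_hasInjectiveDimensionLT m hm

/-- A dualizing complex which is the ring in a single degree has Gorenstein local rings. -/
theorem gor_atPrime_of_single {ω : Dual.D A} (hω : Dual.IsDualizing A ω) (n : ℤ)
    (hz : ∀ i, i ≠ n → IsZero ((DR39.HF A i).obj ω)) (e : (DR39.HF A n).obj ω ≅ ModuleCat.of A A)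
    (p : Ideal A) [p.IsPrime] : LocCoh.IsGorensteinLocalRing (Localization.AtPrime p) := by
  haveI := hω.isNoetherianRing
  haveI : IsNoetherianRing (Localization.AtPrime p) :=
    IsLocalization.isNoetherianRing p.primeCompl _ inferInstance
  haveI : Module.Flat A (Localization.AtPrime p) := IsLocalization.flat _ p.primeCompl
  have hC : ∀ i : ℤ, Nonempty ((DR39.HF (Localization.AtPrime p) i).obj
      ((DR39.DF (DR39.extA A (Localization.AtPrime p))).obj ω) ≅
        (DR39.extA A (Localization.AtPrime p)).obj ((DR39.HF A i).obj ω)) := fun i => by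
    obtain ⟨e'⟩ := DR39.HF_DF (DR39.extA A (Localization.AtPrime p)) ω i
    exact ⟨e'⟩
  refine DR39.gor_of_single_free (DR39.isDualizing_atPrime hω p) n (fun i hi => ?_) ?_
  · obtain ⟨ei⟩ := hC i
    exact IsZero.of_iso ((DR39.extA A (Localization.AtPrime p)).map_isZero (hz i hi)) ei
  · let en := (hC n).some
    let e' := (DR39.ext_tensorIso (Localization.AtPrime p) (ModuleCat.of A A)).some
    exact ((en ≪≫ (DR39.extA A (Localization.AtPrime p)).mapIso e ≪≫ e').toLinearEquiv).trans
      (TensorProduct.AlgebraTensorModule.rid A (Localization.AtPrime p) (Localization.AtPrime p))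

/-- Near a point with Gorenstein local ring, a dualizing complex is the ring in a single degree. -/
theorem exists_open_single {ω : Dual.D A} (hω : Dual.IsDualizing A ω) (p : PrimeSpectrum A)
    (hp : LocCoh.IsGorensteinLocalRing (Localization.AtPrime p.asIdeal)) :
    ∃ (n : ℤ) (φ : A →ₗ[A] (DR39.HF A n).obj ω) (W : Set (PrimeSpectrum A)), IsOpen W ∧ p ∈ W ∧
      ∀ q ∈ W, Subsingleton (LocalizedModule q.asIdeal.primeCompl (LinearMap.ker φ)) ∧
        Subsingleton (LocalizedModule q.asIdeal.primeCompl (((DR39.HF A n).obj ω) ⧸ LinearMap.range φ)) ∧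
        ∀ i, i ≠ n → Subsingleton (LocalizedModule q.asIdeal.primeCompl ((DR39.HF A i).obj ω)) := by
  haveI := hω.isNoetherianRing
  obtain ⟨a, b, hab, -⟩ := DR39.exists_bounds hω
  haveI hfin : ∀ i, Module.Finite A ((DR39.HF A i).obj ω) := hω.finite_cohomology
  haveI : IsNoetherianRing (Localization.AtPrime p.asIdeal) :=
    IsLocalization.isNoetherianRing p.asIdeal.primeCompl _ inferInstance
  haveI : Module.Flat A (Localization.AtPrime p.asIdeal) := IsLocalization.flat _ p.asIdeal.primeCompl
  have hC : ∀ i : ℤ, Nonempty ((DR39.HF (Localization.AtPrime p.asIdeal) i).obj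
      ((DR39.DF (DR39.extA A (Localization.AtPrime p.asIdeal))).obj ω) ≃ₗ[Localization.AtPrime p.asIdeal]
        LocalizedModule p.asIdeal.primeCompl ((DR39.HF A i).obj ω)) := fun i => by
    obtain ⟨e⟩ := DR39.HF_DF (DR39.extA A (Localization.AtPrime p.asIdeal)) ω i
    obtain ⟨e'⟩ := DR39.ext_tensorIso (Localization.AtPrime p.asIdeal) ((DR39.HF A i).obj ω)
    exact ⟨(e ≪≫ e').toLinearEquiv.trans (LocalizedModule.equivTensorProduct p.asIdeal.primeCompl _).symm⟩
  obtain ⟨n, hz, ⟨e⟩⟩ := DR39.single_free_of_gor (DR39.isDualizing_atPrime hω p.asIdeal) hp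
  obtain ⟨ep⟩ := hC n
  let f : LocalizedModule p.asIdeal.primeCompl ((DR39.HF A n).obj ω) ≃ₗ[Localization.AtPrime p.asIdeal]
      Localization.AtPrime p.asIdeal := ep.symm.trans e
  obtain ⟨h, s, hhs⟩ : ∃ (h : (DR39.HF A n).obj ω) (s : p.asIdeal.primeCompl),
      LocalizedModule.mk h s = f.symm 1 := by
    induction f.symm 1 using LocalizedModule.induction_on with
    | h h s => exact ⟨h, s, rfl⟩
  let φ : A →ₗ[A] (DR39.HF A n).obj ω := LinearMap.toSpanSingleton A _ h
  have hu : ∃ u : Localization.AtPrime p.asIdeal, IsUnit u ∧ f (LocalizedModule.mk h 1) = u := by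
    refine ⟨algebraMap A (Localization.AtPrime p.asIdeal) s, IsLocalization.map_units _ s, ?_⟩
    have : LocalizedModule.mk h 1 =
        algebraMap A (Localization.AtPrime p.asIdeal) s • LocalizedModule.mk h s := by
      rw [algebraMap_smul, LocalizedModule.smul'_mk, LocalizedModule.mk_eq]
      exact ⟨1, by simp [Submonoid.smul_def]⟩
    rw [this, map_smul, hhs, LinearEquiv.apply_symm_apply, smul_eq_mul, mul_one]
  obtain ⟨u, hu, hfu⟩ := hu
  have hker : Subsingleton (LocalizedModule p.asIdeal.primeCompl (LinearMap.ker φ)) := by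
    rw [LocalizedModule.subsingleton_iff]
    rintro ⟨x, hx⟩
    have h0 : algebraMap A (Localization.AtPrime p.asIdeal) x * u = 0 := by
      rw [← hfu, ← smul_eq_mul, ← map_smul, algebraMap_smul, LocalizedModule.smul'_mk,
        show x • h = 0 from hx, LocalizedModule.zero_mk, map_zero]
    obtain ⟨t, ht⟩ := (IsLocalization.map_eq_zero_iff p.asIdeal.primeCompl _ x).1
      (hu.mul_left_eq_zero.1 h0)
    exact ⟨t, t.2, Subtype.ext (by simpa using ht)⟩
  have hcok : Subsingleton (LocalizedModule p.asIdeal.primeCompl
      (((DR39.HF A n).obj ω) ⧸ LinearMap.range φ)) := by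
    rw [LocalizedModule.subsingleton_iff]
    intro y
    obtain ⟨y, rfl⟩ := Submodule.Quotient.mk_surjective _ y
    obtain ⟨c, hc⟩ := hu.exists_left_inv
    obtain ⟨a, t, hat⟩ := IsLocalization.exists_mk'_eq p.asIdeal.primeCompl (f (LocalizedModule.mk y 1) * c)
    have e1 : (t : A) • LocalizedModule.mk y (1 : p.asIdeal.primeCompl) = a • LocalizedModule.mk h 1 := by
      apply f.injective
      rw [← algebraMap_smul (Localization.AtPrime p.asIdeal) (t : A), map_smul,
        ← algebraMap_smul (Localization.AtPrime p.asIdeal) a, map_smul, hfu, smul_eq_mul, smul_eq_mul]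
      have := congrArg (· * (u * algebraMap A (Localization.AtPrime p.asIdeal) t)) hat
      beta_reduce at this
      rw [← mul_assoc, mul_comm _ u, mul_assoc, IsLocalization.mk'_spec] at this
      calc _ = f (LocalizedModule.mk y 1) * (c * u) * algebraMap A _ t := by rw [hc, mul_one, mul_comm]
        _ = f (LocalizedModule.mk y 1) * c * (u * algebraMap A _ t) := by ring
        _ = u * algebraMap A _ a := this.symm
        _ = _ := mul_comm _ _
    rw [LocalizedModule.smul'_mk, LocalizedModule.smul'_mk, LocalizedModule.mk_eq] at e1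
    obtain ⟨w, hw⟩ := e1
    refine ⟨(w : A) * t, p.asIdeal.primeCompl.mul_mem w.2 t.2, ?_⟩
    rw [← Submodule.Quotient.mk_smul, Submodule.Quotient.mk_eq_zero]
    refine ⟨(w : A) * a, ?_⟩
    show ((w : A) * a) • h = ((w : A) * t) • y
    simp only [Submonoid.smul_def, OneMemClass.coe_one, one_smul] at hw
    rw [mul_smul, mul_smul]
    exact hw.symm
  let S : Set (PrimeSpectrum A) := Module.support A (LinearMap.ker φ) ∪
    Module.support A (((DR39.HF A n).obj ω) ⧸ LinearMap.range φ) ∪
      ⋃ i ∈ ((Finset.Icc a b).erase n : Set ℤ), Module.support A ((DR39.HF A i).obj ω)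
  refine ⟨n, φ, Sᶜ, IsClosed.isOpen_compl (self := ?_), ?_, fun q hq => ?_⟩
  · exact (Module.isClosed_support.union Module.isClosed_support).union
      ((Finset.finite_toSet _).isClosed_biUnion fun i _ => Module.isClosed_support)
  · simp only [S, Set.mem_compl_iff, Set.mem_union, Set.mem_iUnion, not_or, not_exists, Module.notMem_support_iff]
    refine ⟨⟨hker, hcok⟩, fun i hi => ?_⟩
    obtain ⟨ei⟩ := hC i
    haveI := ModuleCat.subsingleton_of_isZero (hz i (Finset.mem_erase.1 (Finset.mem_coe.1 hi)).1)
    exact ei.symm.toEquiv.subsingleton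
  · simp only [S, Set.mem_compl_iff, Set.mem_union, Set.mem_iUnion, not_or, not_exists,
      Module.notMem_support_iff] at hq
    refine ⟨hq.1.1, hq.1.2, fun i hi => ?_⟩
    by_cases hi' : i ∈ Finset.Icc a b
    · exact hq.2 i (Finset.mem_coe.2 (Finset.mem_erase.2 ⟨hi, hi'⟩))
    · rw [Finset.mem_Icc] at hi'
      haveI := ModuleCat.subsingleton_of_isZero (hab i (by omega))
      exact Module.notMem_support_iff.1 fun h => by
        rw [Module.support_eq_empty] at h; exact h

end Groth.Agent.An92.DualGor
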