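import Groth.Agent.An92.DualGor.Ring
import Groth.Agent.DR39.CMLocusSch
import Groth.Prelude.Def_Dual3

/-!
# Gorenstein schemes and invertible dualizing complexes
-/

set_option autoImplicit false
set_option linter.unusedSectionVars false
set_option backward.isDefEq.respectTransparency false

universe u

open CategoryTheory CategoryTheory.Limits AlgebraicGeometry

attribute [local instance] HasDerivedCategory.standard

namespace Groth.Agent.An92.DualGor

/-- A sheaf of modules with vanishing stalks is zero. -/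
theorem isZero_of_stalk_subsingleton {X : Scheme.{u}} (M : X.Modules)
    (h : ∀ x : X, Subsingleton (M.presheaf.stalk x)) : IsZero M := by
  have hsec : ∀ U : X.Opens, Subsingleton Γ(M, U) := fun U => subsingleton_of_forall_eq 0 fun s =>
    TopCat.Presheaf.section_ext (F := ⟨M.presheaf, M.isSheaf⟩) U s 0 fun x hx => Subsingleton.elim _ _
  rw [IsZero.iff_id_eq_zero]
  apply Scheme.Modules.hom_ext
  intro U
  ext s
  exact Subsingleton.elim _ _

/-- The stalk of a restricted tilde. -/
theorem subsingleton_stalk_restrict_tilde {U : Scheme.{u}} {A : CommRingCat.{u}} (g : U ⟶ Spec A)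
    [IsOpenImmersion g] (M : ModuleCat.{u} A) (x : U)
    (h : Subsingleton (LocalizedModule (PrimeSpectrum.asIdeal (R := A) (g x)).primeCompl M)) :
    Subsingleton (((Scheme.Modules.restrictFunctor g).obj ((tilde.functor A).obj M)).presheaf.stalk x) := by
  rw [← not_nontrivial_iff_subsingleton, DR39.nontrivial_stalk_restrict g]
  exact fun hn => not_nontrivial_iff_subsingleton.2 h ((DR39.nontrivial_stalk_tilde M (g x)).1 hn)

/-- A linear map bijective at the points of an open gives an isomorphism of the restricted tildes. -/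
theorem isIso_restrict_tilde {U : Scheme.{u}} {A : CommRingCat.{u}} (g : U ⟶ Spec A) [IsOpenImmersion g]
    [PreservesFiniteLimits (tilde.functor A)] [PreservesFiniteLimits (Scheme.Modules.restrictFunctor g)]
    {M N : ModuleCat.{u} A} (φ : M ⟶ N)
    (hk : ∀ x : U, Subsingleton (LocalizedModule (PrimeSpectrum.asIdeal (R := A) (g x)).primeCompl
      (LinearMap.ker φ.hom)))
    (hc : ∀ x : U, Subsingleton (LocalizedModule (PrimeSpectrum.asIdeal (R := A) (g x)).primeCompl
      (N ⧸ LinearMap.range φ.hom))) :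
    IsIso ((Scheme.Modules.restrictFunctor g).map ((tilde.functor A).map φ)) := by
  let F := tilde.functor A ⋙ Scheme.Modules.restrictFunctor g
  show IsIso (F.map φ)
  have h1 : IsZero (F.obj (ModuleCat.of A (LinearMap.ker φ.hom))) :=
    isZero_of_stalk_subsingleton _ fun x => subsingleton_stalk_restrict_tilde g _ x (hk x)
  have h2 : IsZero (F.obj (ModuleCat.of A (N ⧸ LinearMap.range φ.hom))) :=
    isZero_of_stalk_subsingleton _ fun x => subsingleton_stalk_restrict_tilde g _ x (hc x)
  have : PreservesColimitsOfSize.{0, 0} F := inferInstance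
  have : PreservesFiniteColimits F := inferInstance
  have : PreservesFiniteLimits F := inferInstance
  have : Mono (F.map φ) := Preadditive.mono_of_kernel_zero <|
    (h1.of_iso ((PreservesKernel.iso F φ).symm ≪≫ F.mapIso (ModuleCat.kernelIsoKer φ))).eq_of_src _ _
  have : Epi (F.map φ) := Preadditive.epi_of_cokernel_zero <|
    (h2.of_iso ((PreservesCokernel.iso F φ).symm ≪≫ F.mapIso (ModuleCat.cokernelIsoRangeQuotient φ))).eq_of_tgt _ _
  exact isIso_of_mono_of_epi _

theorem isZero_homology_single {C : Type*} [Category C] [Abelian C] [HasDerivedCategory C] (M : C)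
    (n i : ℤ) (hi : i ≠ n) :
    IsZero ((DerivedCategory.homologyFunctor C i).obj ((DerivedCategory.singleFunctor C n).obj M)) := by
  rcases lt_or_gt_of_ne hi with h | h
  · exact DerivedCategory.isZero_of_isGE _ n i h
  · exact DerivedCategory.isZero_of_isLE _ n i h

variable {X : Scheme.{u}}
  [∀ (U V : Scheme.{u}) (j : U ⟶ V) [IsOpenImmersion j], PreservesFiniteLimits (Scheme.Modules.restrictFunctor j)]
  [∀ (R : CommRingCat.{u}), PreservesFiniteLimits (tilde.functor R)]

/-- Homology of a restriction through an affine chart. -/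
theorem nonempty_HD_restrict {U : Scheme.{u}} (A : Type u) [CommRing A] (j : Spec (CommRingCat.of A) ⟶ X)
    [IsOpenImmersion j] (g : U ⟶ Spec (CommRingCat.of A)) [IsOpenImmersion g] (i : U ⟶ X) [IsOpenImmersion i]
    (hg : g ≫ j = i) {K : DCoh.D X} {ω : Dual.D A}
    (e : (DCoh.restrictD j).obj K ≅ (DCoh.tildeD (CommRingCat.of A)).obj ω) (k : ℤ) :
    Nonempty (DCoh.HD ((DCoh.restrictD i).obj K) k ≅
      (Scheme.Modules.restrictFunctor g).obj ((tilde.functor (CommRingCat.of A)).obj ((DR39.HF A k).obj ω))) := by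
  obtain ⟨e1⟩ := DR39.nonempty_homology_mapDerived (Scheme.Modules.restrictFunctor i) K k
  obtain ⟨e2⟩ := DR39.nonempty_homology_mapDerived (Scheme.Modules.restrictFunctor j) K k
  obtain ⟨e3⟩ := DR39.nonempty_homology_tildeD (CommRingCat.of A) ω k
  exact ⟨e1 ≪≫ (Scheme.Modules.restrictFunctorCongr hg.symm ≪≫ Scheme.Modules.restrictFunctorComp g j).app _ ≪≫
    (Scheme.Modules.restrictFunctor g).mapIso
      (e2.symm ≪≫ (DerivedCategory.homologyFunctor _ k).mapIso e ≪≫ e3)⟩

/-- The structure sheaf on an open of an affine scheme as a restricted tilde. -/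
noncomputable def restrictTildeSelf {U : Scheme.{u}} (A : Type u) [CommRing A] (g : U ⟶ Spec (CommRingCat.of A))
    [IsOpenImmersion g] :
    (Scheme.Modules.restrictFunctor g).obj ((tilde.functor (CommRingCat.of A)).obj (ModuleCat.of A A)) ≅
      Coh.structureModule U :=
  (Scheme.Modules.restrictFunctor g).mapIso (tildeSelf (R := CommRingCat.of A)) ≪≫
    Scheme.Modules.restrictUnitIso g

/-- An invertible object from a dualizing complex near a Gorenstein point. -/
theorem exists_shift_near {K : DCoh.D X} (hK : Dual2.IsDualizingSch X K) (x : X)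
    (hx : LocCoh.IsGorensteinLocalRing (X.presheaf.stalk x)) :
    ∃ (U : X.Opens) (n : ℤ), x ∈ U ∧
      Nonempty ((DCoh.restrictD U.ι).obj K ≅
        (DCoh.inD (U : Scheme.{u}) (Coh.structureModule (U : Scheme.{u})))⟦n⟧) := by
  obtain ⟨V, hV, hxV, -⟩ := exists_isAffineOpen_mem_and_subset (X := X) (x := x) (U := ⊤) trivial
  let A : Type u := Γ(X, V)
  let j : Spec (CommRingCat.of A) ⟶ X := hV.fromSpec
  haveI : IsOpenImmersion j := inferInstanceAs (IsOpenImmersion hV.fromSpec)
  obtain ⟨(y : PrimeSpectrum A), rfl⟩ : x ∈ Set.range j := by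
    show x ∈ Set.range hV.fromSpec
    rw [hV.range_fromSpec]
    exact hxV
  obtain ⟨ω, hω, ⟨e⟩⟩ := hK A j
  have hy : LocCoh.IsGorensteinLocalRing (Localization.AtPrime y.asIdeal) := by
    obtain ⟨e'⟩ := DR39.stalk_spec_ringEquiv A y
    exact Gor18.gor_of_ringEquiv ((asIso (Scheme.Hom.stalkMap j y)).commRingCatIsoToRingEquiv.trans e')
  obtain ⟨n, φ, W, hW, hyW, hWq⟩ := exists_open_single hω y hy
  let U : X.Opens := j ''ᵁ ⟨W, hW⟩
  have hUj : Set.range U.ι ⊆ Set.range j := by
    rw [Scheme.Opens.range_ι]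
    exact Set.image_subset_range _ _
  let g : (U : Scheme.{u}) ⟶ Spec (CommRingCat.of A) := IsOpenImmersion.lift j U.ι hUj
  have hg : g ≫ j = U.ι := IsOpenImmersion.lift_fac _ _ _
  haveI : IsOpenImmersion g := by
    haveI : IsOpenImmersion (g ≫ j) := by rw [hg]; infer_instance
    exact IsOpenImmersion.of_comp g j
  have hgW : ∀ z : (U : Scheme.{u}), (g z : PrimeSpectrum A) ∈ W := fun z => by
    obtain ⟨w, hw, hwz⟩ := z.2
    have : j (g z) = j w := by rw [← Scheme.Hom.comp_apply, hg]; exact hwz.symm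
    rw [j.isOpenEmbedding.injective this]
    exact hw
  let L := (DCoh.restrictD U.ι).obj K
  have hzero : ∀ k, k ≠ n → IsZero (DCoh.HD L k) := fun k hk => by
    obtain ⟨ek⟩ := nonempty_HD_restrict A j g U.ι hg e k
    exact IsZero.of_iso (isZero_of_stalk_subsingleton _ fun z =>
      subsingleton_stalk_restrict_tilde g _ z ((hWq _ (hgW z)).2.2 k hk)) ek
  obtain ⟨en⟩ := nonempty_HD_restrict A j g U.ι hg e n
  haveI := isIso_restrict_tilde g (ModuleCat.ofHom φ : ModuleCat.of A A ⟶ (DR39.HF A n).obj ω)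
    (fun z => (hWq _ (hgW z)).1) (fun z => (hWq _ (hgW z)).2.1)
  let eO : DCoh.HD L n ≅ Coh.structureModule (U : Scheme.{u}) :=
    en ≪≫ (asIso ((Scheme.Modules.restrictFunctor g).map
      ((tilde.functor (CommRingCat.of A)).map (ModuleCat.ofHom φ)))).symm ≪≫ restrictTildeSelf A g
  haveI : L.IsGE n := (DerivedCategory.isGE_iff L n).2 fun k hk => hzero k hk.ne
  haveI : L.IsLE n := (DerivedCategory.isLE_iff L n).2 fun k hk => hzero k hk.ne'
  obtain ⟨Y, ⟨eY⟩⟩ := DerivedCategory.exists_iso_singleFunctor_obj_of_isGE_of_isLE L n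
  let eY' : Y ≅ Coh.structureModule (U : Scheme.{u}) :=
    ((DerivedCategory.singleFunctorCompHomologyFunctorIso (U : Scheme.{u}).Modules n).app Y).symm ≪≫
      (DerivedCategory.homologyFunctor _ n).mapIso eY.symm ≪≫ eO
  refine ⟨U, -n, ⟨y, hyW, rfl⟩, ⟨eY ≪≫ (DerivedCategory.singleFunctor _ n).mapIso eY' ≪≫
    (((DerivedCategory.singleFunctors (U : Scheme.{u}).Modules).shiftIso (-n) n 0 (by omega)).app _).symm⟩⟩

/-- A dualizing complex which is locally a shift of the structure sheaf has Gorenstein local rings. -/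
theorem gor_of_shift_near {K : DCoh.D X} (hK : Dual2.IsDualizingSch X K) (x : X) (U : X.Opens) (m : ℤ)
    (hxU : x ∈ U)
    (e : (DCoh.restrictD U.ι).obj K ≅
      (DCoh.inD (U : Scheme.{u}) (Coh.structureModule (U : Scheme.{u})))⟦m⟧) :
    LocCoh.IsGorensteinLocalRing (X.presheaf.stalk x) := by
  obtain ⟨V, hV, hxV, hVU⟩ := exists_isAffineOpen_mem_and_subset (X := X) (x := x) (U := U) hxU
  let A : Type u := Γ(X, V)
  let j : Spec (CommRingCat.of A) ⟶ X := hV.fromSpec
  haveI : IsOpenImmersion j := inferInstanceAs (IsOpenImmersion hV.fromSpec)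
  have hjU : Set.range j ⊆ Set.range U.ι := by
    show Set.range hV.fromSpec ⊆ _
    rw [hV.range_fromSpec, Scheme.Opens.range_ι]
    exact hVU
  let g : Spec (CommRingCat.of A) ⟶ (U : Scheme.{u}) := IsOpenImmersion.lift U.ι j hjU
  have hg : g ≫ U.ι = j := IsOpenImmersion.lift_fac _ _ _
  haveI : IsOpenImmersion g := by
    haveI : IsOpenImmersion (g ≫ U.ι) := by rw [hg]; infer_instance
    exact IsOpenImmersion.of_comp g U.ι
  obtain ⟨ω, hω, ⟨ej⟩⟩ := hK A j
  let eU := e ≪≫ ((DerivedCategory.singleFunctors (U : Scheme.{u}).Modules).shiftIso m (-m) 0 (by omega)).app _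
  have key : ∀ k, Nonempty ((tilde.functor (CommRingCat.of A)).obj ((DR39.HF A k).obj ω) ≅
      (Scheme.Modules.restrictFunctor g).obj ((DerivedCategory.homologyFunctor _ k).obj
        ((DerivedCategory.singleFunctor (U : Scheme.{u}).Modules (-m)).obj
          (Coh.structureModule (U : Scheme.{u}))))) := fun k => by
    obtain ⟨e1⟩ := DR39.nonempty_homology_mapDerived (Scheme.Modules.restrictFunctor U.ι) K k
    obtain ⟨e2⟩ := DR39.nonempty_homology_mapDerived (Scheme.Modules.restrictFunctor j) K k
    obtain ⟨e3⟩ := DR39.nonempty_homology_tildeD (CommRingCat.of A) ω k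
    exact ⟨e3.symm ≪≫ (DerivedCategory.homologyFunctor _ k).mapIso ej.symm ≪≫ e2 ≪≫
      (Scheme.Modules.restrictFunctorCongr hg.symm ≪≫ Scheme.Modules.restrictFunctorComp g U.ι).app _ ≪≫
      (Scheme.Modules.restrictFunctor g).mapIso (e1.symm ≪≫ (DerivedCategory.homologyFunctor _ k).mapIso eU)⟩
  let en : (DR39.HF A (-m)).obj ω ≅ ModuleCat.of A A :=
    (tilde.functor (CommRingCat.of A)).preimageIso ((key (-m)).some ≪≫
      (Scheme.Modules.restrictFunctor g).mapIso
        ((DerivedCategory.singleFunctorCompHomologyFunctorIso (U : Scheme.{u}).Modules (-m)).app _) ≪≫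
      Scheme.Modules.restrictUnitIso g ≪≫ (tildeSelf (R := CommRingCat.of A)).symm)
  have hz : ∀ k, k ≠ -m → IsZero ((DR39.HF A k).obj ω) := fun k hk => by
    have h := ((Scheme.Modules.restrictFunctor g).map_isZero
      (isZero_homology_single (Coh.structureModule (U : Scheme.{u})) (-m) k hk)).of_iso (key k).some
    rw [IsZero.iff_id_eq_zero]
    exact (tilde.functor (CommRingCat.of A)).map_injective (h.eq_of_src _ _)
  obtain ⟨(y : PrimeSpectrum A), rfl⟩ : x ∈ Set.range j := by
    show x ∈ Set.range hV.fromSpec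
    rw [hV.range_fromSpec]
    exact hxV
  obtain ⟨e'⟩ := DR39.stalk_spec_ringEquiv A y
  haveI := gor_atPrime_of_single hω (-m) hz en y.asIdeal
  exact Gor18.gor_of_ringEquiv ((asIso (Scheme.Hom.stalkMap j y)).commRingCatIsoToRingEquiv.trans e').symm

/-- The derived tilde of a module in degree zero. -/
noncomputable def tildeDSingle (R : CommRingCat.{u}) [PreservesFiniteLimits (tilde.functor R)]
    (M : ModuleCat.{u} R) :
    (DCoh.tildeD R).obj ((DerivedCategory.singleFunctor (ModuleCat.{u} R) 0).obj M) ≅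
      (DerivedCategory.singleFunctor _ 0).obj ((tilde.functor R).obj M) :=
  ((tilde.functor R).mapDerivedCategorySingleFunctor 0).app M

/-- On a Gorenstein scheme with a dualizing complex the structure sheaf is dualizing. -/
theorem isDualizingSch_structureModule {K : DCoh.D X} (hK : Dual2.IsDualizingSch X K)
    (hX : ∀ x : X, LocCoh.IsGorensteinLocalRing (X.presheaf.stalk x)) :
    Dual2.IsDualizingSch X (DCoh.inD X (Coh.structureModule X)) := by
  intro A _ j _
  obtain ⟨ω, hω, -⟩ := hK A j
  refine ⟨Dual.inD A A, isDualizing_self_of_gor hω fun p _ => ?_, ⟨?_⟩⟩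
  · obtain ⟨e'⟩ := DR39.stalk_spec_ringEquiv A ⟨p, inferInstance⟩
    haveI := hX (j (⟨p, inferInstance⟩ : PrimeSpectrum A))
    exact Gor18.gor_of_ringEquiv ((asIso (Scheme.Hom.stalkMap j
      (⟨p, inferInstance⟩ : PrimeSpectrum A))).commRingCatIsoToRingEquiv.trans e')
  · exact ((Scheme.Modules.restrictFunctor j).mapDerivedCategorySingleFunctor 0).app (Coh.structureModule X) ≪≫
      (DerivedCategory.singleFunctor _ 0).mapIso
        (Scheme.Modules.restrictUnitIso j ≪≫ (tildeSelf (R := CommRingCat.of A)).symm) ≪≫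
      (tildeDSingle (CommRingCat.of A) (ModuleCat.of A A)).symm

end Groth.Agent.An92.DualGor
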