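import Groth.Agent.QC70.Deligne

/-!
# Sections lying in every power of an ideal times a coherent module
-/

set_option autoImplicit false
set_option backward.isDefEq.respectTransparency.types false

universe u

open CategoryTheory Limits AlgebraicGeometry TopologicalSpace Opposite

namespace Groth.Agent.An92.DualGor

open Groth.Agent.QC70

/-- A global section lies in every `I^n F` iff it vanishes near the support of `I`. -/
theorem mem_idealMul_pow_iff_vanishing_near {X : Scheme.{u}} [IsLocallyNoetherian X] (I : X.IdealSheafData)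
    (F : X.Modules) [F.IsQuasicoherent] [F.IsFiniteType] (s : Γ(F, ⊤)) :
    (∀ n : ℕ, ∃ t, (Dual3.idealMulι (I ^ n) F).app ⊤ t = s) ↔
      ∃ V : X.Opens, (I.support : Set X) ⊆ (V : Set X) ∧ res F (le_top : V ≤ ⊤) s = 0 := by
  constructor
  · intro h
    have hloc : ∀ z ∈ (I.support : Set X), ∃ V : X.Opens, z ∈ V ∧ res F (le_top : V ≤ ⊤) s = 0 := by
      intro z hz
      obtain ⟨W, hW, hzW, -⟩ := exists_isAffineOpen_mem_and_subset (X := X) (x := z) (U := ⊤) trivial
      let W' : X.affineOpens := ⟨W, hW⟩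
      have := IsLocallyNoetherian.component_noetherian W'
      have := finite_sections_of_isFiniteType F hW
      have hmem : res F (le_top : W ≤ ⊤) s ∈
          (⨅ n : ℕ, I.ideal W' ^ n • ⊤ : Submodule Γ(X, W) Γ(F, W)) := by
        refine Submodule.mem_iInf _ |>.2 fun n => ?_
        obtain ⟨t, ht⟩ := h n
        have := (mem_idealMul_iff (I ^ n) F W' (res F (le_top : W ≤ ⊤) s)).mp
          ⟨res _ (le_top : W ≤ ⊤) t, by rw [app_res, ht]⟩
        rwa [Scheme.IdealSheafData.ideal_pow, Pi.pow_apply] at this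
      obtain ⟨⟨r, hr⟩, hrs⟩ := (Ideal.mem_iInf_smul_pow_eq_bot_iff (I.ideal W') _).mp hmem
      have hzr : z ∉ X.basicOpen r := by
        have h3 : z ∈ (I.support : Set X) ∩ W := ⟨hz, hzW⟩
        rw [Scheme.IdealSheafData.coe_support_inter I W'] at h3
        exact Scheme.mem_zeroLocus_iff _ _ _ |>.1 h3.1 r hr
      have hz1 : z ∈ X.basicOpen (1 - r) := by
        rw [Scheme.mem_basicOpen X (1 - r) z hzW, map_sub, map_one]
        rw [Scheme.mem_basicOpen X r z hzW] at hzr
        exact IsLocalRing.isUnit_one_sub_self_of_mem_nonunits _ hzr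
      refine ⟨X.basicOpen (1 - r), hz1, ?_⟩
      have h0 : (1 - r) • res F (le_top : W ≤ ⊤) s = 0 := by rw [sub_smul, one_smul, hrs, sub_self]
      have h1 := congrArg (res F (X.basicOpen_le (1 - r))) h0
      rw [res_smul, res_res, res_zero] at h1
      have hu : IsUnit (resO X (X.basicOpen_le (1 - r)) (1 - r)) := RingedSpace.isUnit_res_basicOpen _ _
      exact hu.smul_left_cancel.mp (h1.trans (smul_zero _).symm)
    choose V hzV hV using hloc
    refine ⟨⨆ z : (I.support : Set X), V z.1 z.2, fun z hz => Opens.mem_iSup.2 ⟨⟨z, hz⟩, hzV z hz⟩, ?_⟩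
    refine section_ext' F (fun z : (I.support : Set X) => V z.1 z.2)
      (fun z => le_iSup (fun z : (I.support : Set X) => V z.1 z.2) z) le_rfl _ _ fun z => ?_
    rw [res_res, res_zero]
    exact hV z.1 z.2
  · rintro ⟨V, hV, hs⟩ n
    let η := (Scheme.Modules.pullbackPushforwardAdjunction (I ^ n).subschemeι).unit.app F
    let S : ShortComplex X.Modules := ShortComplex.mk (kernel.ι η) η (kernel.condition η)
    haveI : Mono S.f := inferInstanceAs (Mono (kernel.ι η))
    refine exists_app_eq_of_exact S (ShortComplex.exact_of_f_is_kernel _ (kernelIsKernel η)) ⊤ s ?_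
    refine section_ext _ _ _ fun p _ => ?_
    by_cases hp : p ∈ V
    · refine ⟨V, le_top, hp, ?_⟩
      rw [← app_res, res_zero]
      exact (congrArg (S.g.app V) hs).trans (map_zero _)
    · obtain ⟨W, hW, hpW, hWU⟩ := exists_isAffineOpen_mem_and_subset (X := X) (x := p)
        (U := ⟨(I.support : Set X)ᶜ, I.support.isClosed.isOpen_compl⟩) (fun h => hp (hV h))
      let W' : X.affineOpens := ⟨W, hW⟩
      have htop : I.ideal W' = ⊤ := by
        refine (Ideal.span_eq (I.ideal W')).symm.trans (hW.self_le_iSup_basicOpen_iff.mp ?_)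
        intro q hq
        have hqs : q ∉ I.support := hWU hq
        rw [Scheme.IdealSheafData.mem_support_iff_of_mem (U := W') hq, Scheme.mem_zeroLocus_iff] at hqs
        push Not at hqs
        obtain ⟨a, ha, hqa⟩ := hqs
        exact Opens.mem_iSup.2 ⟨⟨a, ha⟩, hqa⟩
      obtain ⟨c, hc⟩ := (mem_idealMul_iff (I ^ n) F W' (res F (le_top : W ≤ ⊤) s)).mpr (by
        rw [Scheme.IdealSheafData.ideal_pow, Pi.pow_apply, htop, Ideal.top_pow, Submodule.top_smul]
        trivial)
      refine ⟨W, le_top, hpW, ?_⟩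
      rw [res_zero, ← app_res]
      exact (congrArg (S.g.app W) hc).symm.trans (app_f_g S W c)

end Groth.Agent.An92.DualGor
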